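import Groth.Agent.Lib.CoefAlg20.Comod

/-!
# Finite comodules as quotients of finite projective comodules
-/

universe u

set_option linter.style.haveILetI false

open TensorProduct Module HopfRep

namespace Groth.Agent.CoQuot20

open Groth.Agent.CoefAlg20

variable {R : Type u} [CommRing R] {C : Type u} [AddCommGroup C] [Module R C] [Coalgebra R C]
  {V : Type u} [AddCommGroup V] [Module R V] [Comod R C V]

/-- Every finite subset of a subcomodule lies in a finite subcomodule contained in it. -/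
theorem exists_fg_subcomod_le [IsNoetherianRing R] [Module.Flat R C] (W : Submodule R V)
    (hW : IsSubcomod (k := R) (A := C) W) (F : Finset V) (hF : (↑F : Set V) ⊆ W) :
    ∃ N : Submodule R V, N.FG ∧ IsSubcomod (k := R) (A := C) N ∧ (↑F : Set V) ⊆ N ∧ N ≤ W := by
  classical
  have hpre : ∀ v : V, ∃ S : Finset (V × C), (v ∈ W → (Comod.coact (k := R) (A := C) v) = ∑ p ∈ S, p.1 ⊗ₜ[R] p.2) ∧
      ∀ p ∈ S, p.1 ∈ W := fun v => by
    by_cases hv : v ∈ W
    · obtain ⟨w, hw⟩ := hW v hv
      obtain ⟨S, rfl⟩ := TensorProduct.exists_finset w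
      refine ⟨S.image fun p => ((p.1 : V), p.2), fun _ => ?_, fun p hp => ?_⟩
      · rw [← hw, map_sum, Finset.sum_image]
        · exact Finset.sum_congr rfl fun p _ => LinearMap.rTensor_tmul _ _ _ _
        · exact fun p _ q _ h => Prod.ext (Subtype.ext (congrArg Prod.fst h)) (congrArg Prod.snd h :)
      · obtain ⟨q, -, rfl⟩ := Finset.mem_image.1 hp
        exact q.1.2
    · exact ⟨∅, fun h => absurd h hv, fun p hp => absurd hp (Finset.notMem_empty p)⟩
  choose S hS hSW using hpre
  let N₀ : Submodule R V := Submodule.span R (F.biUnion fun v => (S v).image Prod.fst : Finset V)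
  let θ : V →ₗ[R] (V ⧸ N₀) ⊗[R] C := N₀.mkQ.rTensor C ∘ₗ Comod.coact (k := R) (A := C)
  let N := LinearMap.ker θ
  have hN0 : N ≤ N₀ := by
    intro v hv
    have h1 : (CoalgebraStruct.counit (R := R) (A := C)).lTensor (V ⧸ N₀) (θ v) = N₀.mkQ v ⊗ₜ[R] (1 : R) := by
      rw [LinearMap.comp_apply, ← LinearMap.comp_apply (g := N₀.mkQ.rTensor C), LinearMap.lTensor_comp_rTensor,
        ← LinearMap.rTensor_comp_lTensor, LinearMap.comp_apply]
      have h := LinearMap.congr_fun (Comod.counit_comp (k := R) (A := C) (V := V)) v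
      rw [LinearMap.comp_apply] at h
      rw [h]
      simp
    rw [LinearMap.mem_ker.1 hv, map_zero] at h1
    have h2 := congrArg (TensorProduct.rid R (V ⧸ N₀)) h1.symm
    simpa using h2
  have hN₀W : N₀ ≤ W := Submodule.span_le.2 fun x hx => by
    obtain ⟨v, -, hx⟩ := Finset.mem_biUnion.1 hx
    obtain ⟨p, hp, rfl⟩ := Finset.mem_image.1 hx
    exact hSW v p hp
  refine ⟨N, ?_, ?_, ?_, hN0.trans hN₀W⟩
  · haveI : IsNoetherian R N₀ := isNoetherian_of_fg_of_noetherian N₀ (Submodule.fg_span (Finset.finite_toSet _))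
    haveI : Module.Finite R N := Module.Finite.of_injective (Submodule.inclusion hN0) (Submodule.inclusion_injective hN0)
    exact Module.Finite.iff_fg.1 inferInstance
  · intro v hv
    have hex : Function.Exact (N.subtype.rTensor C) (θ.rTensor C) :=
      Module.Flat.rTensor_exact C (LinearMap.exact_subtype_ker_map θ)
    refine (hex _).1 ?_
    have h1 := LinearMap.congr_fun (Comod.coassoc (k := R) (A := C) (V := V)) v
    simp only [LinearMap.comp_apply, LinearEquiv.coe_coe] at h1
    refine (TensorProduct.assoc R (V ⧸ N₀) C C).injective ?_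
    rw [map_zero]
    have h2 : ∀ z : (V ⊗[R] C) ⊗[R] C, TensorProduct.assoc R (V ⧸ N₀) C C ((N₀.mkQ.rTensor C).rTensor C z) =
        N₀.mkQ.rTensor (C ⊗[R] C) (TensorProduct.assoc R V C C z) := fun z =>
      LinearMap.congr_fun (TensorProduct.ext_threefold (g := (TensorProduct.assoc R (V ⧸ N₀) C C).toLinearMap ∘ₗ
        (N₀.mkQ.rTensor C).rTensor C) (h := N₀.mkQ.rTensor (C ⊗[R] C) ∘ₗ (TensorProduct.assoc R V C C).toLinearMap)
        fun _ _ _ => by simp) z
    rw [show θ.rTensor C = (N₀.mkQ.rTensor C).rTensor C ∘ₗ (Comod.coact (k := R) (A := C) (V := V)).rTensor C from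
      LinearMap.rTensor_comp _ _ _, LinearMap.comp_apply, h2, h1, ← LinearMap.comp_apply,
      LinearMap.rTensor_comp_lTensor, ← LinearMap.lTensor_comp_rTensor, LinearMap.comp_apply]
    rw [show N₀.mkQ.rTensor C (Comod.coact (k := R) (A := C) v) = 0 from LinearMap.mem_ker.1 hv, map_zero]
  · intro v hv
    show θ v = 0
    rw [LinearMap.comp_apply, hS v (hF hv), map_sum]
    refine Finset.sum_eq_zero fun p hp => ?_
    rw [LinearMap.rTensor_tmul, Submodule.mkQ_apply, (Submodule.Quotient.mk_eq_zero N₀).2, TensorProduct.zero_tmul]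
    exact Submodule.subset_span (Finset.mem_biUnion.2 ⟨v, hv, Finset.mem_image.2 ⟨p, hp, rfl⟩⟩)

theorem assoc_nat {X Y : Type u} [AddCommGroup X] [Module R X] [AddCommGroup Y] [Module R Y] (φ : X →ₗ[R] Y) :
    φ.rTensor (C ⊗[R] C) ∘ₗ (TensorProduct.assoc R X C C).toLinearMap =
      (TensorProduct.assoc R Y C C).toLinearMap ∘ₗ (φ.rTensor C).rTensor C :=
  TensorProduct.ext_threefold fun _ _ _ => by simp

/-- The coaction of a subcomodule. -/
theorem exists_restrict [Module.Flat R C] [Module.Flat R V] (N : Submodule R V)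
    (hN : IsSubcomod (k := R) (A := C) N) :
    ∃ ρN : N →ₗ[R] N ⊗[R] C, IsCoaction N ρN ∧
      N.subtype.rTensor C ∘ₗ ρN = Comod.coact (k := R) (A := C) ∘ₗ N.subtype := by
  have hinj : ∀ (W : Type u) [AddCommGroup W] [Module R W] [Module.Flat R W],
      Function.Injective (N.subtype.rTensor W) := fun W _ _ _ =>
    Module.Flat.rTensor_preserves_injective_linearMap _ N.subtype_injective
  let ρN : N →ₗ[R] N ⊗[R] C := (LinearEquiv.ofInjective (N.subtype.rTensor C) (hinj C)).symm.toLinearMap ∘ₗ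
    (Comod.coact (k := R) (A := C) ∘ₗ N.subtype).codRestrict (LinearMap.range (N.subtype.rTensor C)) fun v => hN v v.2
  have hρN : N.subtype.rTensor C ∘ₗ ρN = Comod.coact (k := R) (A := C) ∘ₗ N.subtype := LinearMap.ext fun v =>
    LinearEquiv.ofInjective_symm_apply (f := N.subtype.rTensor C) (h := hinj C) _
  have hρNc : IsCoaction N ρN := by
    constructor
    · refine LinearMap.ext fun v => hinj (C ⊗[R] C) ?_
      have h := LinearMap.congr_fun (Comod.coassoc (k := R) (A := C) (V := V)) v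
      simp only [LinearMap.comp_apply, LinearEquiv.coe_coe] at h ⊢
      have e1 := LinearMap.congr_fun (assoc_nat (C := C) N.subtype) (ρN.rTensor C (ρN v))
      simp only [LinearMap.comp_apply, LinearEquiv.coe_coe] at e1
      rw [e1, ← LinearMap.rTensor_comp_apply, hρN, LinearMap.rTensor_comp_apply]
      have e2 := LinearMap.congr_fun hρN v
      simp only [LinearMap.comp_apply] at e2
      rw [e2, show (N.subtype v) = (v : V) from rfl, h, ← LinearMap.comp_apply (g := CoalgebraStruct.comul.lTensor N),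
        LinearMap.rTensor_comp_lTensor, ← LinearMap.lTensor_comp_rTensor, LinearMap.comp_apply, e2]
      rfl
    · refine LinearMap.ext fun v => hinj R ?_
      have h := LinearMap.congr_fun (Comod.counit_comp (k := R) (A := C) (V := V)) v
      simp only [LinearMap.comp_apply] at h ⊢
      have e2 := LinearMap.congr_fun hρN v
      simp only [LinearMap.comp_apply] at e2
      rw [← LinearMap.comp_apply (g := CoalgebraStruct.counit.lTensor N), LinearMap.rTensor_comp_lTensor,
        ← LinearMap.lTensor_comp_rTensor, LinearMap.comp_apply, e2, show (N.subtype v) = (v : V) from rfl, h]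
      simp
  exact ⟨ρN, hρNc, hρN⟩

/-- The projective hull of a finite subcomodule of a flat comodule. -/
theorem exists_hull [IsRegularRing R] (hdim : ringKrullDim R ≤ 2) [Module.Flat R C] [Module.Flat R V]
    (N : Submodule R V) (hNfg : N.FG) (hN : IsSubcomod (k := R) (A := C) N) :
    ∃ (P : Type u) (_ : AddCommGroup P) (_ : Module R P) (_ : Module.Finite R P) (_ : Module.Projective R P)
      (ρ : P →ₗ[R] P ⊗[R] C) (g : P →ₗ[R] V), IsCoaction P ρ ∧
      Comod.coact (k := R) (A := C) ∘ₗ g = g.rTensor C ∘ₗ ρ ∧ N ≤ LinearMap.range g ∧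
      ∀ φ : P, ∃ s : R, (∀ z, s * z = 0 → z = 0) ∧ s • g φ ∈ N := by
  classical
  haveI : _root_.IsReduced R :=
    Cyc6.isReduced_of_regular R fun P _ => IsRegularRing.isRegularLocalRing_localization P
  haveI : Module.Finite R N := Module.Finite.iff_fg.2 hNfg
  haveI : Module.FinitePresentation R N := Module.finitePresentation_of_finite R N
  haveI := (finite_projective_dual_dual hdim N).1
  haveI := (finite_projective_dual_dual hdim N).2
  let P := Dual R (Dual R N)
  let ι := Dual.eval R N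
  obtain ⟨ρN, hρNc, hρN⟩ := exists_restrict (C := C) N hN
  obtain ⟨g, hg⟩ := exists_extend N.subtype
  obtain ⟨ρ, hρ⟩ := exists_extend (R := R) (N := N) (V := P ⊗[R] C) (ι.rTensor C ∘ₗ ρN)
  refine ⟨P, inferInstance, inferInstance, inferInstance, inferInstance, ρ, g, ⟨?_, ?_⟩, ?_, ?_, ?_⟩
  · refine extend_unique (LinearMap.ext fun v => ?_)
    have hv := LinearMap.congr_fun hρ v
    have h := LinearMap.congr_fun hρNc.1 v
    simp only [LinearMap.comp_apply, LinearEquiv.coe_coe] at hv h ⊢
    rw [hv, ← LinearMap.rTensor_comp_apply, hρ, LinearMap.rTensor_comp_apply]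
    have e1 := LinearMap.congr_fun (assoc_nat (C := C) ι) (ρN.rTensor C (ρN v))
    simp only [LinearMap.comp_apply, LinearEquiv.coe_coe] at e1
    rw [← e1, h, ← LinearMap.comp_apply (f := CoalgebraStruct.comul.lTensor P), LinearMap.lTensor_comp_rTensor,
      ← LinearMap.rTensor_comp_lTensor, LinearMap.comp_apply]
  · refine extend_unique (LinearMap.ext fun v => ?_)
    have hv := LinearMap.congr_fun hρ v
    have h := LinearMap.congr_fun hρNc.2 v
    simp only [LinearMap.comp_apply] at hv h ⊢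
    rw [hv, ← LinearMap.comp_apply (f := CoalgebraStruct.counit.lTensor P), LinearMap.lTensor_comp_rTensor,
      ← LinearMap.rTensor_comp_lTensor, LinearMap.comp_apply, h]
    simp [ι]
    rfl
  · refine extend_unique (LinearMap.ext fun v => ?_)
    have hv := LinearMap.congr_fun hρ v
    have h := LinearMap.congr_fun hg v
    simp only [LinearMap.comp_apply] at hv h ⊢
    rw [hv, ← LinearMap.rTensor_comp_apply, hg, h]
    exact (LinearMap.congr_fun hρN v).symm
  · intro v hv
    exact ⟨ι ⟨v, hv⟩, LinearMap.congr_fun hg ⟨v, hv⟩⟩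
  · intro φ
    obtain ⟨s, hs, hsN⟩ := exists_nzd_eval (R := R) N
    obtain ⟨x, hx⟩ := hsN φ
    refine ⟨s, hs, ?_⟩
    rw [← map_smul, ← hx, show g (ι x) = (x : V) from LinearMap.congr_fun hg x]
    exact x.2

section Cofree

/-- The coaction of the cofree comodule. -/
noncomputable def cofreeCoact (R C W : Type u) [CommRing R] [AddCommGroup C] [Module R C] [Coalgebra R C]
    [AddCommGroup W] [Module R W] : W ⊗[R] C →ₗ[R] (W ⊗[R] C) ⊗[R] C :=
  (TensorProduct.assoc R W C C).symm.toLinearMap ∘ₗ (CoalgebraStruct.comul (R := R) (A := C)).lTensor W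

theorem cofreeCoact_comp_mk (W : Type u) [AddCommGroup W] [Module R W] (w : W) :
    cofreeCoact R C W ∘ₗ TensorProduct.mk R W C w =
      (TensorProduct.mk R W C w).rTensor C ∘ₗ CoalgebraStruct.comul := by
  refine LinearMap.ext fun c => ?_
  simp only [cofreeCoact, LinearMap.comp_apply, LinearEquiv.coe_coe, TensorProduct.mk_apply, LinearMap.lTensor_tmul]
  induction CoalgebraStruct.comul (R := R) (A := C) c using TensorProduct.induction_on with
  | zero => simp
  | tmul a b => simp
  | add x y hx hy => rw [TensorProduct.tmul_add, map_add, hx, hy, map_add]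

variable (R C) (W : Type u) [AddCommGroup W] [Module R W]

/-- The cofree comodule. -/
@[implicit_reducible]
noncomputable def cofree : Comod R C (W ⊗[R] C) where
  coact := cofreeCoact R C W
  coassoc := by
    refine TensorProduct.ext' fun w c => ?_
    obtain ⟨f, hf⟩ : ∃ f : C →ₗ[R] W ⊗[R] C, f = TensorProduct.mk R W C w := ⟨_, rfl⟩
    have key : cofreeCoact R C W ∘ₗ f = f.rTensor C ∘ₗ CoalgebraStruct.comul := by
      rw [hf]; exact cofreeCoact_comp_mk W w
    have hfc : w ⊗ₜ[R] c = f c := by rw [hf]; rfl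
    have k1 := LinearMap.congr_fun key c
    have a1 := LinearMap.congr_fun (assoc_nat (C := C) f) ((CoalgebraStruct.comul (R := R) (A := C)).rTensor C
      (CoalgebraStruct.comul (R := R) (A := C) c))
    have c1 := LinearMap.congr_fun (Coalgebra.coassoc (R := R) (A := C)) c
    simp only [LinearMap.comp_apply, LinearEquiv.coe_coe] at k1 a1 c1 ⊢
    rw [hfc, k1, ← LinearMap.rTensor_comp_apply, key, LinearMap.rTensor_comp_apply, ← a1, c1,
      ← LinearMap.comp_apply (f := f.rTensor (C ⊗[R] C)), LinearMap.rTensor_comp_lTensor,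
      ← LinearMap.lTensor_comp_rTensor, LinearMap.comp_apply]
  counit_comp := by
    refine TensorProduct.ext' fun w c => ?_
    have k1 := LinearMap.congr_fun (cofreeCoact_comp_mk (R := R) (C := C) W w) c
    simp only [LinearMap.comp_apply, TensorProduct.mk_apply] at k1 ⊢
    rw [k1, ← LinearMap.comp_apply (g := (TensorProduct.mk R W C w).rTensor C), LinearMap.lTensor_comp_rTensor,
      ← LinearMap.rTensor_comp_lTensor, LinearMap.comp_apply, Coalgebra.lTensor_counit_comul]
    rfl

end Cofree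

variable (R C) in
/-- A finite comodule is the quotient of a subcomodule of a cofree comodule on a finite free module. -/
theorem exists_cover [Module.Flat R C] (F : Type u) [AddCommGroup F] [Module R F] [Comod R C F] [Module.Finite R F] :
    ∃ (M : Type u) (_ : AddCommGroup M) (_ : Module R M) (_ : Module.Flat R M) (_ : Comod R C M)
      (W : Submodule R M) (π₀ : M →ₗ[R] F), IsSubcomod (k := R) (A := C) W ∧
      (∀ w ∈ W, Comod.coact (k := R) (A := C) (π₀ w) = π₀.rTensor C (Comod.coact (k := R) (A := C) w)) ∧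
      (∀ x, ∃ w ∈ W, π₀ w = x) ∧
      ∀ (s : R) (y : M), Function.Injective (fun z : F ⊗[R] C => s • z) → s • y ∈ W → y ∈ W := by
  obtain ⟨n, p, hp⟩ := Module.Finite.exists_fin' R F
  letI : Comod R C ((Fin n → R) ⊗[R] C) := cofree R C (Fin n → R)
  obtain ⟨ρ, hρ⟩ : ∃ ρ : F →ₗ[R] F ⊗[R] C, ρ = Comod.coact (k := R) (A := C) := ⟨_, rfl⟩
  obtain ⟨Δ, hΔ⟩ : ∃ d : (Fin n → R) ⊗[R] C →ₗ[R] ((Fin n → R) ⊗[R] C) ⊗[R] C,
      d = cofreeCoact R C (Fin n → R) := ⟨_, rfl⟩
  obtain ⟨P, hP⟩ : ∃ P : (Fin n → R) ⊗[R] C →ₗ[R] F ⊗[R] C, P = p.rTensor C := ⟨_, rfl⟩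
  obtain ⟨r, hr⟩ : ∃ r : F ⊗[R] C →ₗ[R] F, r =
      (TensorProduct.rid R F).toLinearMap ∘ₗ (CoalgebraStruct.counit (R := R) (A := C)).lTensor F := ⟨_, rfl⟩
  have hrρ : ∀ x, r (ρ x) = x := fun x => by
    have h := LinearMap.congr_fun (Comod.counit_comp (k := R) (A := C) (V := F)) x
    rw [LinearMap.comp_apply] at h
    rw [hr, hρ, LinearMap.comp_apply, h]
    simp
  -- the projection is compatible with the coactions
  have hPΔ : P.rTensor C ∘ₗ Δ = cofreeCoact R C F ∘ₗ P := by
    refine TensorProduct.ext' fun w c => ?_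
    have k1 := LinearMap.congr_fun (cofreeCoact_comp_mk (R := R) (C := C) (Fin n → R) w) c
    have k2 := LinearMap.congr_fun (cofreeCoact_comp_mk (R := R) (C := C) F (p w)) c
    simp only [LinearMap.comp_apply, TensorProduct.mk_apply] at k1 k2 ⊢
    rw [hΔ, hP, k1, LinearMap.rTensor_tmul, k2, ← LinearMap.rTensor_comp_apply]
    congr 1
  have hπΔ : (r ∘ₗ P).rTensor C ∘ₗ Δ = P := by
    refine TensorProduct.ext' fun w c => ?_
    have k1 := LinearMap.congr_fun (cofreeCoact_comp_mk (R := R) (C := C) (Fin n → R) w) c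
    simp only [LinearMap.comp_apply, TensorProduct.mk_apply] at k1 ⊢
    have e : (r ∘ₗ P) ∘ₗ TensorProduct.mk R (Fin n → R) C w =
        LinearMap.toSpanSingleton R F (p w) ∘ₗ CoalgebraStruct.counit (R := R) (A := C) :=
      LinearMap.ext fun c => by simp [hr, hP]
    rw [hΔ, k1, ← LinearMap.rTensor_comp_apply, e, LinearMap.rTensor_comp_apply, Coalgebra.rTensor_counit_comul,
      LinearMap.rTensor_tmul, hP, LinearMap.rTensor_tmul]
    simp
  have hρc : ∀ x, cofreeCoact R C F (ρ x) = ρ.rTensor C (ρ x) := fun x => by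
    have h := LinearMap.congr_fun (Comod.coassoc (k := R) (A := C) (V := F)) x
    simp only [LinearMap.comp_apply, LinearEquiv.coe_coe] at h
    rw [hρ, cofreeCoact, LinearMap.comp_apply, ← h]
    simp
  let q := (LinearMap.range ρ).mkQ ∘ₗ P
  refine ⟨(Fin n → R) ⊗[R] C, inferInstance, inferInstance, inferInstance, inferInstance, LinearMap.ker q,
    r ∘ₗ P, ?_, ?_, ?_, ?_⟩
  · intro w hw
    have hq := LinearMap.exact_subtype_ker_map q
    have hex := Module.Flat.rTensor_exact C (N := LinearMap.ker q) (N' := (Fin n → R) ⊗[R] C)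
      (N'' := (F ⊗[R] C) ⧸ LinearMap.range ρ) hq
    refine (hex _).1 ?_
    obtain ⟨x, hx⟩ := (Submodule.Quotient.mk_eq_zero _).1 (show Submodule.Quotient.mk (P w) = 0 from hw)
    show q.rTensor C (cofreeCoact R C _ w) = 0
    have h := LinearMap.congr_fun hPΔ w
    simp only [LinearMap.comp_apply] at h
    rw [show q.rTensor C = (LinearMap.range ρ).mkQ.rTensor C ∘ₗ P.rTensor C from LinearMap.rTensor_comp _ _ _,
      LinearMap.comp_apply, ← hΔ, h, ← hx, hρc, ← LinearMap.rTensor_comp_apply,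
      show (LinearMap.range ρ).mkQ ∘ₗ ρ = 0 from LinearMap.range_mkQ_comp ρ]
    simp
  · intro w hw
    obtain ⟨x, hx⟩ := (Submodule.Quotient.mk_eq_zero _).1 (show Submodule.Quotient.mk (P w) = 0 from hw)
    show _ = (r ∘ₗ P).rTensor C (cofreeCoact R C _ w)
    have h := LinearMap.congr_fun hπΔ w
    simp only [LinearMap.comp_apply] at h
    rw [← hΔ, h, LinearMap.comp_apply, ← hx, hrρ, hρ]
  · intro x
    obtain ⟨w, hw⟩ := LinearMap.rTensor_surjective C hp (ρ x)
    rw [← hP] at hw
    refine ⟨w, (Submodule.Quotient.mk_eq_zero _).2 ⟨x, hw.symm⟩, ?_⟩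
    rw [LinearMap.comp_apply, hw, hrρ]
  · intro s y hs hy
    obtain ⟨x, hx⟩ := (Submodule.Quotient.mk_eq_zero _).1 (show Submodule.Quotient.mk (P (s • y)) = 0 from hy)
    refine (Submodule.Quotient.mk_eq_zero _).2 ⟨r (P y), hs ?_⟩
    rw [map_smul] at hx
    have h1 : x = s • r (P y) := by rw [← map_smul, ← hx, hrρ]
    show s • ρ (r (P y)) = s • P y
    rw [← map_smul, ← h1, hx]

variable (R C) in
/-- The main theorem. -/
theorem exists_projective_cover [IsRegularRing R] (hdim : ringKrullDim R ≤ 2) [Module.Projective R C]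
    (F : Type u) [AddCommGroup F] [Module R F] [Comod R C F] [Module.Finite R F] :
    ∃ (V : Type u) (_ : AddCommGroup V) (_ : Module R V) (_ : Comod R C V) (φ : V →ₗ[R] F),
      Module.Finite R V ∧ Module.Projective R V ∧ Function.Surjective φ ∧
      Comod.coact (k := R) (A := C) ∘ₗ φ = φ.rTensor C ∘ₗ Comod.coact (k := R) (A := C) (V := V) := by
  classical
  haveI : IsNoetherianRing R := inferInstance
  -- a torsion free cover
  obtain ⟨M, _, _, _, _, W, π₁, hW, hπ₁, hπ₁s, -⟩ := exists_cover R C F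
  obtain ⟨n, gen, hgen⟩ := Module.Finite.exists_fin (R := R) (M := F)
  choose lift hliftW hlift using hπ₁s
  obtain ⟨N, hNfg, hNsub, hFN, hNW⟩ := exists_fg_subcomod_le W hW (Finset.univ.image fun i => lift (gen i))
    (by intro x hx; obtain ⟨i, -, rfl⟩ := Finset.mem_image.1 hx; exact hliftW _)
  haveI : Module.Finite R N := Module.Finite.iff_fg.2 hNfg
  have hsurj₁ : Function.Surjective (π₁ ∘ₗ N.subtype) := by
    rw [← LinearMap.range_eq_top, eq_top_iff, ← hgen, Submodule.span_le]
    rintro _ ⟨i, rfl⟩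
    exact ⟨⟨lift (gen i), hFN (by simp)⟩, hlift _⟩
  obtain ⟨ρN, hρNc, hρN⟩ := exists_restrict (C := C) N hNsub
  letI : Comod R C N := ⟨ρN, hρNc.1, hρNc.2⟩
  -- a saturated cover of it
  obtain ⟨M₂, _, _, _, _, W₂, π₂, hW₂, hπ₂, hπ₂s, hsat⟩ := exists_cover R C N
  obtain ⟨m, gen₂, hgen₂⟩ := Module.Finite.exists_fin (R := R) (M := N)
  choose lift₂ hlift₂W hlift₂ using hπ₂s
  obtain ⟨N₂, hN₂fg, hN₂sub, hFN₂, hN₂W⟩ := exists_fg_subcomod_le W₂ hW₂ (Finset.univ.image fun i => lift₂ (gen₂ i))
    (by intro x hx; obtain ⟨i, -, rfl⟩ := Finset.mem_image.1 hx; exact hlift₂W _)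
  obtain ⟨P, _, _, hPfin, hPproj, ρP, g, hρP, hg, hrange, hs⟩ := exists_hull hdim N₂ hN₂fg hN₂sub
  letI : Comod R C P := ⟨ρP, hρP.1, hρP.2⟩
  have hgW : ∀ φ, g φ ∈ W₂ := fun φ => by
    obtain ⟨s, hs, hsN⟩ := hs φ
    refine hsat s _ ?_ (hN₂W hsN)
    have hs' : s ∈ nonZeroDivisors R :=
      mem_nonZeroDivisors_iff_right.2 fun x hx => hs x (by rwa [mul_comm] at hx)
    have hi : Function.Injective (N.subtype.rTensor C) :=
      Module.Flat.rTensor_preserves_injective_linearMap _ N.subtype_injective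
    intro a b hab
    refine hi ((Module.Flat.isSMulRegular_of_nonZeroDivisors (M := M ⊗[R] C) hs') ?_)
    simp only at hab
    simp only [← map_smul, hab]
  refine ⟨P, inferInstance, inferInstance, inferInstance, (π₁ ∘ₗ N.subtype) ∘ₗ π₂ ∘ₗ g, hPfin, hPproj,
    hsurj₁.comp ?_, ?_⟩
  · rw [← LinearMap.range_eq_top, eq_top_iff, ← hgen₂, Submodule.span_le]
    rintro _ ⟨i, rfl⟩
    obtain ⟨φ, hφ⟩ := hrange (hFN₂ (by simp) : lift₂ (gen₂ i) ∈ N₂)
    exact ⟨φ, by rw [LinearMap.comp_apply, hφ, hlift₂]⟩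
  · refine LinearMap.ext fun φ => ?_
    have e1 := hπ₁ _ (hNW (π₂ (g φ)).2)
    have e2 := LinearMap.congr_fun hρN (π₂ (g φ))
    have e3 := hπ₂ _ (hgW φ)
    have e4 := LinearMap.congr_fun hg φ
    simp only [LinearMap.comp_apply, Submodule.subtype_apply] at e1 e2 e3 e4 ⊢
    rw [e1, ← e2, show ρN (π₂ (g φ)) = π₂.rTensor C (g.rTensor C (ρP φ)) from e3.trans (congrArg _ e4)]
    simp only [← LinearMap.rTensor_comp_apply]
    rfl

end Groth.Agent.CoQuot20
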